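import Groth.Agent.ExtFlat.Torsion
import Groth.Agent.ExtBC.Basic

/-!
Adjunction of base change on `Ext` along flat maps.
-/

set_option autoImplicit false
set_option linter.style.haveILetI false

namespace Groth.Agent.ExtFlat

universe u

open CategoryTheory CategoryTheory.Limits TensorProduct Abelian

variable {A : Type u} [CommRing A] (B : Type u) [CommRing B] [Algebra A B] [Module.Flat A B]
  (Y : Type u) [AddCommGroup Y] [Module A Y] [Module B Y] [IsScalarTower A B Y]

theorem nonempty_ext_adj : ∀ (r : ℕ) (M : Type u) [AddCommGroup M] [Module A M],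
    Nonempty (Ext (ModuleCat.of A M) (ModuleCat.of A Y) r ≃+ Ext (ModuleCat.of B (B ⊗[A] M)) (ModuleCat.of B Y) r)
  | r, M, _, _ => by
    obtain ⟨F, _, _, _, π, hπ⟩ : ∃ (F : Type u) (_ : AddCommGroup F) (_ : Module A F) (_ : Module.Free A F)
        (π : F →ₗ[A] M), Function.Surjective π :=
      ⟨(M →₀ A), inferInstance, inferInstance, inferInstance, Finsupp.linearCombination A id, fun m =>
        ⟨Finsupp.single m 1, by simp⟩⟩
    let S : ShortComplex (ModuleCat.{u} A) :=
      ShortComplex.mk (X₁ := ModuleCat.of A (LinearMap.ker π)) (X₂ := ModuleCat.of A F)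
        (X₃ := ModuleCat.of A M) (ModuleCat.ofHom (LinearMap.ker π).subtype) (ModuleCat.ofHom π) (by
          ext z
          exact z.2)
    have hex : Function.Exact (LinearMap.ker π).subtype π := LinearMap.exact_subtype_ker_map π
    have hS : S.ShortExact :=
      { exact := (ShortComplex.ShortExact.moduleCat_exact_iff_function_exact S).2 hex
        mono_f := (ModuleCat.mono_iff_injective _).2 (LinearMap.ker π).injective_subtype
        epi_g := (ModuleCat.epi_iff_surjective _).2 hπ }
    haveI : Projective S.X₂ := (IsProjective.iff_projective _).1 (inferInstanceAs (Module.Projective A F))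
    let ι' := (LinearMap.ker π).subtype.baseChange B
    let π' := π.baseChange B
    have hex' : Function.Exact ι' π' := lTensor_exact B hex hπ
    let S' : ShortComplex (ModuleCat.{u} B) :=
      ShortComplex.mk (X₁ := ModuleCat.of B (B ⊗[A] LinearMap.ker π)) (X₂ := ModuleCat.of B (B ⊗[A] F))
        (X₃ := ModuleCat.of B (B ⊗[A] M)) (ModuleCat.ofHom ι') (ModuleCat.ofHom π')
        (ModuleCat.hom_ext (LinearMap.ext fun z => hex'.apply_apply_eq_zero z))
    have hS' : S'.ShortExact :=
      { exact := (ShortComplex.ShortExact.moduleCat_exact_iff_function_exact S').2 hex'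
        mono_f := (ModuleCat.mono_iff_injective _).2
          (Module.Flat.lTensor_preserves_injective_linearMap _ (LinearMap.ker π).injective_subtype)
        epi_g := (ModuleCat.epi_iff_surjective _).2 (LinearMap.lTensor_surjective B hπ) }
    haveI : Projective S'.X₂ :=
      (IsProjective.iff_projective _).1 (inferInstanceAs (Module.Projective B (B ⊗[A] F)))
    match r with
    | 0 =>
      exact ⟨((Ext.addEquiv₀.trans ModuleCat.homAddEquiv).trans (LinearMap.liftBaseChangeEquiv B).toAddEquiv).trans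
        (Ext.addEquiv₀.trans ModuleCat.homAddEquiv).symm⟩
    | 1 =>
      obtain ⟨a⟩ := ExtBC.nonempty_ext_one_equiv hS Y
      obtain ⟨b⟩ := ExtBC.nonempty_ext_one_equiv hS' Y
      let e₁ : (LinearMap.ker π →ₗ[A] Y) ≃+ ((B ⊗[A] LinearMap.ker π) →ₗ[B] Y) :=
        (LinearMap.liftBaseChangeEquiv B).toAddEquiv
      let e₂ : (F →ₗ[A] Y) ≃+ ((B ⊗[A] F) →ₗ[B] Y) :=
        (LinearMap.liftBaseChangeEquiv B).toAddEquiv
      have hsq : ∀ g, e₁ (g.comp (LinearMap.ker π).subtype) = (e₂ g).comp ι' := fun g =>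
        TensorProduct.AlgebraTensorModule.ext fun b x => by simp [e₁, e₂, ι']
      let T := LinearMap.lcomp A Y (LinearMap.ker π).subtype
      let T' := LinearMap.lcomp B Y ι'
      have hmap : (LinearMap.range T).toAddSubgroup.map e₁.toAddMonoidHom = (LinearMap.range T').toAddSubgroup := by
        ext z
        constructor
        · rintro ⟨_, ⟨g, rfl⟩, rfl⟩
          exact ⟨e₂ g, (hsq g).symm⟩
        · rintro ⟨g, rfl⟩
          refine ⟨T (e₂.symm g), ⟨_, rfl⟩, ?_⟩
          change e₁ ((e₂.symm g).comp (LinearMap.ker π).subtype) = g.comp ι'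
          rw [hsq, e₂.apply_symm_apply]
      exact ⟨(a.toAddEquiv.trans (QuotientAddGroup.congr _ _ e₁ hmap)).trans b.toAddEquiv.symm⟩
    | q + 2 =>
      obtain ⟨a⟩ := ExtBC.nonempty_ext_succ_equiv hS Y q
      obtain ⟨b⟩ := ExtBC.nonempty_ext_succ_equiv hS' Y q
      obtain ⟨e⟩ := nonempty_ext_adj (q + 1) (LinearMap.ker π)
      exact ⟨(a.symm.toAddEquiv.trans e).trans b.toAddEquiv⟩

/-- the base change isomorphism on `Ext` out of power torsion modules -/
theorem nonempty_ext_baseChange (I : Ideal A) (hI : I.FG)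
    (hs : Function.Surjective ((Ideal.Quotient.mk (I.map (algebraMap A B))).comp (algebraMap A B)))
    (hk : RingHom.ker ((Ideal.Quotient.mk (I.map (algebraMap A B))).comp (algebraMap A B)) = I)
    (M N : Type u) [AddCommGroup M] [Module A M] [AddCommGroup N] [Module A N]
    (hM : ∀ m : M, ∃ n : ℕ, ∀ a ∈ I ^ n, a • m = 0) (q : ℕ) :
    Nonempty (Ext (ModuleCat.of A M) (ModuleCat.of A N) q ≃+
      Ext (ModuleCat.of B (B ⊗[A] M)) (ModuleCat.of B (B ⊗[A] N)) q) := by
  have hb := bij_torsion (B := B) I hI hs hk (ModuleCat.of A M) hM q (ModuleCat.of A N)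
  let c : Ext (ModuleCat.of A M) (ModuleCat.of A N) q →+ Ext (ModuleCat.of A M) (ModuleCat.of A (B ⊗[A] N)) q :=
    (Ext.mk₀ (η B (ModuleCat.of A N))).postcomp (ModuleCat.of A M) (add_zero q)
  obtain ⟨e⟩ := nonempty_ext_adj (A := A) B (B ⊗[A] N) q M
  exact ⟨(AddEquiv.ofBijective c hb).trans e⟩

end Groth.Agent.ExtFlat
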