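import Mathlib

/-!
`Ext` into `N → B ⊗ N` for modules killed by an ideal along a flat map.
-/

set_option autoImplicit false
set_option linter.style.haveILetI false

namespace Groth.Agent.ExtFlat

universe u

open CategoryTheory CategoryTheory.Limits TensorProduct Abelian

variable {A : Type u} [CommRing A] (B : Type u) [CommRing B] [Algebra A B]

/-- `B ⊗ N` as an `A`-module -/
abbrev FN (N : ModuleCat.{u} A) : ModuleCat.{u} A := ModuleCat.of A (B ⊗[A] N)

/-- the map `N → B ⊗ N` -/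
noncomputable def η (N : ModuleCat.{u} A) : N ⟶ FN B N := ModuleCat.ofHom (TensorProduct.mk A B N 1)

/-- `B ⊗ -` on maps -/
noncomputable def Fmap {M N : ModuleCat.{u} A} (f : M ⟶ N) : FN B M ⟶ FN B N :=
  ModuleCat.ofHom (f.hom.lTensor B)

lemma η_nat {M N : ModuleCat.{u} A} (f : M ⟶ N) : f ≫ η B N = η B M ≫ Fmap B f := rfl

lemma Fmap_comp {M N P : ModuleCat.{u} A} (f : M ⟶ N) (g : N ⟶ P) : Fmap B f ≫ Fmap B g = Fmap B (f ≫ g) :=
  ModuleCat.hom_ext (LinearMap.lTensor_comp B g.hom f.hom).symm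

lemma Fmap_smul_id (N : ModuleCat.{u} A) (a : A) : Fmap B (a • 𝟙 N) = a • 𝟙 (FN B N) :=
  ModuleCat.hom_ext (by
    change LinearMap.lTensor B (a • (LinearMap.id : N →ₗ[A] N)) = a • LinearMap.id
    rw [LinearMap.lTensor_smul, LinearMap.lTensor_id])

lemma Fmap_zero (M N : ModuleCat.{u} A) : Fmap B (0 : M ⟶ N) = 0 :=
  ModuleCat.hom_ext (LinearMap.lTensor_zero B)

/-- the tensored short complex -/
noncomputable abbrev FS (S : ShortComplex (ModuleCat.{u} A)) : ShortComplex (ModuleCat.{u} A) :=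
  ShortComplex.mk (Fmap B S.f) (Fmap B S.g) (by rw [Fmap_comp, S.zero, Fmap_zero])

/-- `η` on short complexes -/
noncomputable def ηS (S : ShortComplex (ModuleCat.{u} A)) : S ⟶ FS B S where
  τ₁ := η B S.X₁
  τ₂ := η B S.X₂
  τ₃ := η B S.X₃
  comm₁₂ := (η_nat B S.f).symm
  comm₂₃ := (η_nat B S.g).symm

variable {B} in
lemma FS_shortExact [Module.Flat A B] {S : ShortComplex (ModuleCat.{u} A)} (hS : S.ShortExact) :
    (FS B S).ShortExact :=
  { exact := (ShortComplex.ShortExact.moduleCat_exact_iff_function_exact _).2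
      (lTensor_exact B ((ShortComplex.ShortExact.moduleCat_exact_iff_function_exact S).1 hS.exact)
        ((ModuleCat.epi_iff_surjective _).1 hS.epi_g))
    mono_f := (ModuleCat.mono_iff_injective _).2
      (Module.Flat.lTensor_preserves_injective_linearMap _ ((ModuleCat.mono_iff_injective _).1 hS.mono_f))
    epi_g := (ModuleCat.epi_iff_surjective _).2
      (LinearMap.lTensor_surjective B ((ModuleCat.epi_iff_surjective _).1 hS.epi_g)) }

variable {B}

/-- postcomposition with a map -/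
noncomputable abbrev pc {T M N : ModuleCat.{u} A} {q : ℕ} (x : Ext T M q) (f : M ⟶ N) : Ext T N q :=
  x.comp (Ext.mk₀ f) (add_zero q)

lemma pc_pc {T M N P : ModuleCat.{u} A} {q : ℕ} (x : Ext T M q) (f : M ⟶ N) (g : N ⟶ P) :
    pc (pc x f) g = pc x (f ≫ g) := by
  rw [pc, pc, Ext.comp_assoc_of_third_deg_zero, Ext.mk₀_comp_mk₀]

lemma pc_smul_id {T M : ModuleCat.{u} A} {q : ℕ} (x : Ext T M q) (a : A) : pc x (a • 𝟙 M) = a • x :=
  (Ext.smul_eq_comp_mk₀ x a).symm

lemma smul_eq_zero_of_source {T M : ModuleCat.{u} A} {q : ℕ} (x : Ext T M q) {a : A} (h : a • 𝟙 T = 0) :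
    a • x = 0 := by
  calc a • x = (a • Ext.mk₀ (𝟙 T)).comp x (zero_add q) := by rw [Ext.smul_comp, Ext.mk₀_id_comp]
    _ = 0 := by rw [← Ext.mk₀_smul, h, Ext.mk₀_zero, Ext.zero_comp]

lemma eq_zero_of_pc_mono {T M N : ModuleCat.{u} A} (x : Ext T M 0) (f : M ⟶ N) [Mono f] (h : pc x f = 0) : x = 0 := by
  obtain ⟨g, rfl⟩ := (Ext.mk₀_bijective T M).2 x
  rw [pc, Ext.mk₀_comp_mk₀, ← Ext.mk₀_zero] at h
  rw [Limits.zero_of_comp_mono f ((Ext.mk₀_bijective _ _).1 h), Ext.mk₀_zero]

lemma pc_zero {T M N : ModuleCat.{u} A} {q : ℕ} (f : M ⟶ N) : pc (0 : Ext T M q) f = 0 := by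
  rw [pc, Ext.zero_comp]

variable (B) in
/-- `η` is bijective on `Ext^q(T, N)` -/
def Bij (T N : ModuleCat.{u} A) (q : ℕ) : Prop := Function.Bijective fun x : Ext T N q => pc x (η B N)

lemma Bij.inj {T N : ModuleCat.{u} A} {q : ℕ} (h : Bij B T N q) {x : Ext T N q} (hx : pc x (η B N) = 0) : x = 0 :=
  h.1 (hx.trans (pc_zero _).symm)

lemma Bij.surj {T N : ModuleCat.{u} A} {q : ℕ} (h : Bij B T N q) (y : Ext T (FN B N) q) :
    ∃ x : Ext T N q, pc x (η B N) = y := h.2 y

lemma bij_of_isIso (T N : ModuleCat.{u} A) (q : ℕ) [IsIso (η B N)] : Bij B T N q := by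
  refine ⟨fun x y h => ?_, fun y => ⟨pc y (inv (η B N)), ?_⟩⟩
  · have := congrArg (fun z => pc z (inv (η B N))) h
    simpa only [pc_pc, IsIso.hom_inv_id, pc, Ext.comp_mk₀_id] using this
  · simp only [pc_pc, IsIso.inv_hom_id, pc, Ext.comp_mk₀_id]

variable [Module.Flat A B]

lemma extClass_η {S : ShortComplex (ModuleCat.{u} A)} (hS : S.ShortExact) {T : ModuleCat.{u} A} {q q' : ℕ}
    (x : Ext T S.X₃ q) (h : q + 1 = q') :
    pc (x.comp hS.extClass h) (η B S.X₁) = (pc x (η B S.X₃)).comp (FS_shortExact hS).extClass h := by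
  have := ShortComplex.ShortExact.extClass_naturality hS (FS_shortExact (B := B) hS) (ηS B S)
  change hS.extClass.comp (Ext.mk₀ (η B S.X₁)) _ = (Ext.mk₀ (η B S.X₃)).comp _ _ at this
  rw [pc, pc, Ext.comp_assoc_of_third_deg_zero, this,
    ← Ext.comp_assoc _ _ _ (add_zero q) (zero_add 1) (by omega)]

/-- if the kernel and cokernel of `a` are fine and `a` kills the source, then everything is fine -/
theorem bij_step {T : ModuleCat.{u} A} {a : A} (haT : a • 𝟙 T = 0) (C : ModuleCat.{u} A → Prop)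
    (hC : ∀ (S : ShortComplex (ModuleCat.{u} A)), S.ShortExact → C S.X₂ → C S.X₁ ∧ C S.X₃)
    (hgood : ∀ N, C N → (∀ x : N, a • x = 0) → ∀ q, Bij B T N q) (q : ℕ) :
    ∀ N, C N → Bij B T N q := by
  induction q using Nat.strong_induction_on with
  | h q IH =>
  intro N hN
  let K : ModuleCat.{u} A := ModuleCat.of A (LinearMap.ker (a • LinearMap.id : N →ₗ[A] N))
  let J : ModuleCat.{u} A := ModuleCat.of A (LinearMap.range (a • LinearMap.id : N →ₗ[A] N))
  let Q : ModuleCat.{u} A := ModuleCat.of A (N ⧸ LinearMap.range (a • LinearMap.id : N →ₗ[A] N))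
  let f₁ : K ⟶ N := ModuleCat.ofHom (LinearMap.ker (a • LinearMap.id : N →ₗ[A] N)).subtype
  let g₁ : N ⟶ J := ModuleCat.ofHom (a • LinearMap.id : N →ₗ[A] N).rangeRestrict
  let f₂ : J ⟶ N := ModuleCat.ofHom (LinearMap.range (a • LinearMap.id : N →ₗ[A] N)).subtype
  let g₂ : N ⟶ Q := ModuleCat.ofHom (LinearMap.range (a • LinearMap.id : N →ₗ[A] N)).mkQ
  let S₁ : ShortComplex (ModuleCat.{u} A) := ShortComplex.mk f₁ g₁
    (ModuleCat.hom_ext (LinearMap.ext fun z => Subtype.ext z.2))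
  let S₂ : ShortComplex (ModuleCat.{u} A) := ShortComplex.mk f₂ g₂
    (ModuleCat.hom_ext (LinearMap.ext fun z => (Submodule.Quotient.mk_eq_zero _).2 z.2))
  have h₁ : S₁.ShortExact :=
    { exact := (ShortComplex.ShortExact.moduleCat_exact_iff_function_exact S₁).2 fun z =>
        ⟨fun hz => ⟨⟨z, congrArg Subtype.val hz⟩, rfl⟩, by rintro ⟨w, rfl⟩; exact Subtype.ext w.2⟩
      mono_f := (ModuleCat.mono_iff_injective _).2 Subtype.val_injective
      epi_g := (ModuleCat.epi_iff_surjective _).2 (LinearMap.surjective_rangeRestrict _) }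
  have h₂ : S₂.ShortExact :=
    { exact := (ShortComplex.ShortExact.moduleCat_exact_iff_function_exact S₂).2 (LinearMap.exact_subtype_mkQ _)
      mono_f := (ModuleCat.mono_iff_injective _).2 Subtype.val_injective
      epi_g := (ModuleCat.epi_iff_surjective _).2 (Submodule.mkQ_surjective _) }
  have eN : g₁ ≫ f₂ = a • 𝟙 N := rfl
  have hK : ∀ p, Bij B T K p := hgood K (hC S₁ h₁ hN).1 fun x => Subtype.ext x.2
  have hQ : ∀ p, Bij B T Q p := hgood Q (hC S₂ h₂ hN).2 fun x => by
    obtain ⟨x, rfl⟩ := Submodule.Quotient.mk_surjective _ x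
    exact (Submodule.Quotient.mk_eq_zero _).2 ⟨x, rfl⟩
  have hJ : ∀ p, p < q → Bij B T J p := fun p hp => IH p hp J (hC S₁ h₁ hN).2
  have hN' : ∀ p, p < q → Bij B T N p := fun p hp => IH p hp N hN
  have F₁ := FS_shortExact (B := B) h₁
  have F₂ := FS_shortExact (B := B) h₂
  haveI : Mono f₂ := h₂.mono_f
  haveI : Mono (Fmap B f₂) := F₂.mono_f
  haveI : Mono (Fmap B f₁) := F₁.mono_f
  have hinj : ∀ x : Ext T N q, pc x (η B N) = 0 → x = 0 := by
    intro x hx
    have hj0 : pc (pc x g₁) f₂ = 0 := by rw [pc_pc, eN, pc_smul_id, smul_eq_zero_of_source x haT]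
    have hjη : pc (pc x g₁) (η B J) = 0 := by rw [pc_pc, η_nat, ← pc_pc, hx, pc_zero]
    have hjx : pc x g₁ = 0 := by
      rcases q with _ | n₀
      · exact eq_zero_of_pc_mono _ f₂ hj0
      · obtain ⟨k, hk⟩ := Ext.covariant_sequence_exact₁ T h₂ (pc x g₁) hj0 (n₀ := n₀) rfl
        have h0 : (pc k (η B Q)).comp F₂.extClass rfl = 0 := by
          rw [← extClass_η h₂ k rfl, hk]; exact hjη
        obtain ⟨n', hn'⟩ := Ext.covariant_sequence_exact₃ T F₂ (pc k (η B Q)) rfl h0
        obtain ⟨n, rfl⟩ := (hN' n₀ (by omega)).surj n'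
        have : k = pc n g₂ := (hQ n₀).1 (by
          change pc k (η B Q) = pc (pc n g₂) (η B Q)
          rw [← hn', pc_pc n g₂, η_nat, ← pc_pc])
        rw [← hk, this, pc, Ext.comp_assoc_of_second_deg_zero, h₂.comp_extClass, Ext.comp_zero]
    obtain ⟨k, hk⟩ := Ext.covariant_sequence_exact₂ T h₁ x hjx
    have hk0 : pc (pc k (η B K)) (Fmap B f₁) = 0 := by rw [pc_pc, ← η_nat, ← pc_pc, show pc k f₁ = x from hk, hx]
    rcases q with _ | n₀
    · rw [← hk, (hK 0).inj (eq_zero_of_pc_mono _ (Fmap B f₁) hk0), Ext.zero_comp]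
    · obtain ⟨j', hj'⟩ := Ext.covariant_sequence_exact₁ T F₁ (pc k (η B K)) hk0 (n₀ := n₀) rfl
      obtain ⟨j₀, rfl⟩ := (hJ n₀ (by omega)).surj j'
      have : k = j₀.comp h₁.extClass rfl := (hK _).1 (by
        change pc k (η B K) = pc (j₀.comp h₁.extClass rfl) (η B K)
        exact hj'.symm.trans (extClass_η h₁ j₀ rfl).symm)
      rw [← hk, this, Ext.comp_assoc_of_third_deg_zero, h₁.extClass_comp, Ext.comp_zero]
  refine ⟨fun x x' h => sub_eq_zero.1 (hinj _ ?_), fun y => ?_⟩
  · change (x - x').comp (Ext.mk₀ (η B N)) (add_zero q) = 0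
    rw [sub_eq_add_neg, Ext.add_comp, Ext.neg_comp, ← sub_eq_add_neg]
    exact sub_eq_zero.2 h
  · have hw0 : pc (pc y (Fmap B g₁)) (Fmap B f₂) = 0 := by
      rw [pc_pc, Fmap_comp, eN, Fmap_smul_id, pc_smul_id, smul_eq_zero_of_source y haT]
    obtain ⟨j, hjw⟩ : ∃ j : Ext T J q, pc j (η B J) = pc y (Fmap B g₁) := by
      rcases q with _ | n₀
      · exact ⟨0, (pc_zero _).trans (eq_zero_of_pc_mono _ (Fmap B f₂) hw0).symm⟩
      · obtain ⟨k', hk'⟩ := Ext.covariant_sequence_exact₁ T F₂ (pc y (Fmap B g₁)) hw0 (n₀ := n₀) rfl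
        obtain ⟨k, rfl⟩ := (hQ n₀).surj k'
        exact ⟨k.comp h₂.extClass rfl, (extClass_η h₂ k rfl).trans hk'⟩
    have hδ : j.comp h₁.extClass (rfl : q + 1 = q + 1) = 0 := (hK (q + 1)).inj (by
      rw [extClass_η h₁ j rfl, hjw, pc, Ext.comp_assoc_of_second_deg_zero, F₁.comp_extClass, Ext.comp_zero])
    obtain ⟨x, hx⟩ := Ext.covariant_sequence_exact₃ T h₁ j rfl hδ
    have hz : pc (pc x (η B N) - y) (Fmap B g₁) = 0 := by
      change (pc x (η B N) - y).comp (Ext.mk₀ (Fmap B g₁)) (add_zero q) = 0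
      rw [sub_eq_add_neg, Ext.add_comp, Ext.neg_comp, ← sub_eq_add_neg, sub_eq_zero]
      change pc (pc x (η B N)) (Fmap B g₁) = pc y (Fmap B g₁)
      rw [← hjw, ← show pc x g₁ = j from hx, pc_pc, pc_pc, η_nat]
    obtain ⟨k', hk'⟩ := Ext.covariant_sequence_exact₂ T F₁ _ hz
    obtain ⟨k, rfl⟩ := (hK q).surj k'
    refine ⟨x - pc k f₁, ?_⟩
    change (x - pc k f₁).comp (Ext.mk₀ (η B N)) (add_zero q) = y
    rw [sub_eq_add_neg, Ext.add_comp, Ext.neg_comp, ← sub_eq_add_neg]
    change pc x (η B N) - pc (pc k f₁) (η B N) = y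
    have hk'' : pc (pc k (η B K)) (Fmap B f₁) = pc x (η B N) - y := hk'
    rw [pc_pc k f₁, η_nat, ← pc_pc, hk'', sub_sub_cancel]

omit [Module.Flat A B] in
/-- `η` is invertible on modules killed by `I` -/
theorem isIso_η (I : Ideal A)
    (hs : Function.Surjective ((Ideal.Quotient.mk (I.map (algebraMap A B))).comp (algebraMap A B)))
    (hk : RingHom.ker ((Ideal.Quotient.mk (I.map (algebraMap A B))).comp (algebraMap A B)) = I)
    (N : ModuleCat.{u} A) (hN : ∀ a ∈ I, ∀ x : N, a • x = 0) : IsIso (η B N) := by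
  have hzero : ∀ (j : B), j ∈ I.map (algebraMap A B) → ∀ x : N, j ⊗ₜ[A] x = 0 := fun j hj => by
    induction hj using Submodule.span_induction with
    | mem y hy =>
      obtain ⟨i, hi, rfl⟩ := hy
      exact fun x => by rw [Algebra.algebraMap_eq_smul_one, TensorProduct.smul_tmul, hN i hi, TensorProduct.tmul_zero]
    | zero => exact fun x => TensorProduct.zero_tmul _ x
    | add y z _ _ hy hz => exact fun x => by rw [TensorProduct.add_tmul, hy, hz, add_zero]
    | smul b z _ hz =>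
      intro x
      have := congrArg (LinearMap.rTensor N (LinearMap.mulLeft A b)) (hz x)
      rwa [LinearMap.rTensor_tmul, map_zero, LinearMap.mulLeft_apply] at this
  let φ := (Ideal.Quotient.mk (I.map (algebraMap A B))).comp (algebraMap A B)
  let φ' : A →ₗ[A] B ⧸ I.map (algebraMap A B) :=
    { toFun := φ
      map_add' := map_add φ
      map_smul' := fun a x => (map_mul φ a x).trans (Algebra.smul_def a (φ x)).symm }
  let e : (A ⧸ LinearMap.ker φ') ≃ₗ[A] B ⧸ I.map (algebraMap A B) := φ'.quotKerEquivOfSurjective hs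
  let act : (A ⧸ LinearMap.ker φ') →ₗ[A] N →ₗ[A] N := (LinearMap.ker φ').liftQ (LinearMap.lsmul A N) fun a ha =>
    LinearMap.mem_ker.2 (LinearMap.ext fun x => hN a (hk ▸ (ha : a ∈ RingHom.ker φ)) x)
  let ψ : B →ₗ[A] (A ⧸ LinearMap.ker φ') :=
    e.symm.toLinearMap ∘ₗ ((Ideal.Quotient.mkₐ A (I.map (algebraMap A B))).toLinearMap)
  have hψ : ψ 1 = Submodule.Quotient.mk 1 := by
    refine e.injective ?_
    change e (e.symm _) = φ' 1
    rw [e.apply_symm_apply]
    exact (map_one φ).symm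
  let r : B ⊗[A] N →ₗ[A] N := TensorProduct.lift (act ∘ₗ ψ)
  haveI : Mono (η B N) := (ModuleCat.mono_iff_injective _).2 (Function.LeftInverse.injective (g := r) fun x => by
    change act (ψ 1) x = x
    rw [hψ]
    exact one_smul A x)
  haveI : Epi (η B N) := (ModuleCat.epi_iff_surjective _).2 fun z => by
    induction z using TensorProduct.induction_on with
    | zero => exact ⟨0, map_zero _⟩
    | tmul b x =>
      obtain ⟨a, ha⟩ := hs (Ideal.Quotient.mk _ b)
      refine ⟨a • x, ?_⟩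
      have hb : b - algebraMap A B a ∈ I.map (algebraMap A B) := Ideal.Quotient.eq.1 ha.symm
      have := hzero _ hb x
      rw [TensorProduct.sub_tmul, sub_eq_zero] at this
      rw [this, Algebra.algebraMap_eq_smul_one, TensorProduct.smul_tmul]
      rfl
    | add y z hy hz =>
      obtain ⟨y', hy'⟩ := hy
      obtain ⟨z', hz'⟩ := hz
      exact ⟨y' + z', by rw [map_add, hy', hz']⟩
  exact isIso_of_mono_of_epi _

/-- the case of modules killed by `I` -/
theorem bij_of_killed (I : Ideal A) (hI : I.FG)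
    (hs : Function.Surjective ((Ideal.Quotient.mk (I.map (algebraMap A B))).comp (algebraMap A B)))
    (hk : RingHom.ker ((Ideal.Quotient.mk (I.map (algebraMap A B))).comp (algebraMap A B)) = I)
    (T : ModuleCat.{u} A) (hT : ∀ a ∈ I, ∀ x : T, a • x = 0) (N : ModuleCat.{u} A) (q : ℕ) : Bij B T N q := by
  classical
  obtain ⟨s, hs'⟩ := hI
  suffices key : ∀ l : Finset A, l ⊆ s → ∀ N : ModuleCat.{u} A, (∀ a ∈ s, a ∉ l → ∀ x : N, a • x = 0) →
      ∀ q, Bij B T N q from key s (Finset.Subset.refl s) N (fun a ha h => absurd ha h) q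
  intro l
  induction l using Finset.induction with
  | empty =>
    intro _ N hN q
    haveI := isIso_η (B := B) I hs hk N fun a ha x => by
      rw [← hs'] at ha
      induction ha using Submodule.span_induction with
      | mem y hy => exact hN y hy (Finset.notMem_empty y) x
      | zero => exact zero_smul A x
      | add y z _ _ hy hz => rw [add_smul, hy, hz, add_zero]
      | smul b z _ hz => rw [smul_eq_mul, mul_smul, hz, smul_zero]
    exact bij_of_isIso T N q
  | insert f l _ ih =>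
    intro hl N hN q
    have hfI : f ∈ I := hs' ▸ Ideal.subset_span (hl (Finset.mem_insert_self f l))
    refine bij_step (a := f) (ModuleCat.hom_ext (LinearMap.ext fun x => hT f hfI x))
      (fun N => ∀ a ∈ s, a ∉ insert f l → ∀ x : N, a • x = 0) ?_ ?_ q N hN
    · intro S hS h
      refine ⟨fun a ha hal x => (ModuleCat.mono_iff_injective _).1 hS.mono_f ?_, fun a ha hal x => ?_⟩
      · rw [map_smul, h a ha hal, map_zero]
      · obtain ⟨y, rfl⟩ := (ModuleCat.epi_iff_surjective _).1 hS.epi_g x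
        rw [← map_smul, h a ha hal, map_zero]
    · intro N' hN' hf p
      refine ih ((Finset.subset_insert f l).trans hl) N' (fun a ha hal x => ?_) p
      by_cases haf : a = f
      · exact haf ▸ hf x
      · exact hN' a ha (by simp [haf, hal]) x

end Groth.Agent.ExtFlat
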