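import Groth.Agent.AmpleHomeo.Basic
import Groth.Agent.MeroLib.Special
import Groth.Agent.TMul.GenLocus
import Mathlib

/-! Generators of pushforwards from a big open detected after a flat covering. -/

set_option autoImplicit false
set_option backward.isDefEq.respectTransparency false
set_option maxHeartbeats 1000000

universe u

open CategoryTheory CategoryTheory.Limits AlgebraicGeometry TopologicalSpace Opposite
open Groth.Agent.QC (res resO res_res res_smul res_self)
open TMul (IsGen)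

noncomputable section

namespace Groth.Agent.ExtFlat

variable {X X' : Scheme.{u}}

/-- Some pulled back section generates near a point where the pullback is invertible. -/
theorem exists_pullSect_gen (φ : X' ⟶ X) {G : X.Modules} (hG : Coh.IsQCoh G)
    (hP : PicF.IsInvertible ((Scheme.Modules.pullback φ).obj G)) {W : X.Opens} (hW : IsAffineOpen W)
    (y : X') (hy : φ y ∈ W) :
    ∃ (s : Γ(G, W)) (O : X'.Opens) (hO : O ≤ φ ⁻¹ᵁ W), y ∈ O ∧
      IsGen (res ((Scheme.Modules.pullback φ).obj G) hO (OmegaSh.pullSect φ G W s)) := by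
  classical
  obtain ⟨D, e, hyD, he⟩ := TMul.exists_isGen hP y
  obtain ⟨W', hW', hyW', hW'le⟩ := exists_isAffineOpen_mem_and_subset (U := D ⊓ φ ⁻¹ᵁ W) (x := y) ⟨hyD, hy⟩
  have hle : W' ≤ φ ⁻¹ᵁ W := hW'le.trans inf_le_right
  let θ := (Scheme.Modules.pullbackPushforwardAdjunction φ).unit.app G
  have hbc := RelTilde.isBC_unit φ hG hW hW' hle
  let r := RelTilde.resθ φ θ hle
  let S : Submodule Γ(X', W') Γ((Scheme.Modules.pullback φ).obj G, W') := Submodule.span _ (Set.range r)
  obtain ⟨f, -, huniq⟩ := hbc (Γ((Scheme.Modules.pullback φ).obj G, W') ⧸ S) 0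
  have h1 : S.mkQ = f := huniq _ fun m =>
    (Submodule.Quotient.mk_eq_zero _).2 (Submodule.subset_span ⟨m, rfl⟩)
  have h2 : (0 : _ →ₗ[Γ(X', W')] _) = f := huniq _ fun m => rfl
  let g := res ((Scheme.Modules.pullback φ).obj G) (hW'le.trans inf_le_left) e
  have hg : IsGen g := he.res _
  have hgS : g ∈ S := (Submodule.Quotient.mk_eq_zero _).1 (LinearMap.congr_fun (h1.trans h2.symm) g)
  choose c hc using fun m => (hg W' le_rfl).2 (r m)
  simp only [res_self] at hc
  by_contra hne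
  have key : ∀ m, X'.presheaf.germ W' y hyW' (c m) ∈ IsLocalRing.maximalIdeal (X'.presheaf.stalk y) :=
    fun m hu => hne ⟨m, X'.basicOpen (c m), (X'.basicOpen_le _).trans hle, (X'.mem_basicOpen _ y hyW').2 hu, by
      have h3 := TMul.isGen_smul (hg.res (X'.basicOpen_le (c m))) (RingedSpace.isUnit_res_basicOpen _ (c m))
      change IsGen (resO X' (X'.basicOpen_le (c m)) (c m) • res _ (X'.basicOpen_le (c m)) g) at h3
      rw [← res_smul, hc m, show r m = res _ hle (OmegaSh.pullSect φ G W m) from rfl, res_res] at h3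
      exact h3⟩
  let q : Γ((Scheme.Modules.pullback φ).obj G, W') → Prop := fun t =>
    ∃ d : Γ(X', W'), d • g = t ∧ X'.presheaf.germ W' y hyW' d ∈ IsLocalRing.maximalIdeal (X'.presheaf.stalk y)
  have hall : q g := by
    revert hgS
    generalize g = t
    intro ht
    induction ht using Submodule.span_induction with
    | mem t ht => obtain ⟨m, rfl⟩ := ht; exact ⟨c m, hc m, key m⟩
    | zero => exact ⟨0, zero_smul _ _, by rw [map_zero]; exact Submodule.zero_mem _⟩
    | add a b _ _ ha hb =>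
      obtain ⟨d, rfl, hd⟩ := ha
      obtain ⟨d', rfl, hd'⟩ := hb
      exact ⟨d + d', add_smul _ _ _, by rw [map_add]; exact add_mem hd hd'⟩
    | smul a t _ ht =>
      obtain ⟨d, rfl, hd⟩ := ht
      exact ⟨a * d, mul_smul _ _ _, by rw [map_mul]; exact Ideal.mul_mem_left _ _ hd⟩
  obtain ⟨d, hd, hd'⟩ := hall
  have : d = 1 := (hg W' le_rfl).1 (by simpa only [res_self, one_smul] using hd)
  rw [this, map_one] at hd'
  exact (IsLocalRing.maximalIdeal.isMaximal _).ne_top ((Ideal.eq_top_iff_one _).2 hd')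

/-- A point in the closure of a locally closed subset of a noetherian space specialises from it. -/
theorem exists_specializes {α : Type*} [TopologicalSpace α] [NoetherianSpace α] [QuasiSober α] {C U : Set α}
    (hC : IsClosed C) (hU : IsOpen U) {x : α} (hx : x ∈ closure (C ∩ U)) : ∃ z ∈ C ∩ U, z ⤳ x := by
  obtain ⟨S, hS, hSc, hSi, hSU⟩ := NoetherianSpace.exists_finite_set_isClosed_irreducible hC
  have hsub : C ∩ U ⊆ ⋃₀ {t ∈ S | (t ∩ U).Nonempty} := fun z hz => by
    obtain ⟨t, ht, hzt⟩ := (hSU ▸ hz.1 : z ∈ ⋃₀ S)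
    exact ⟨t, ⟨ht, z, hzt, hz.2⟩, hzt⟩
  have hcl : IsClosed (⋃₀ {t ∈ S | (t ∩ U).Nonempty}) := by
    rw [Set.sUnion_eq_biUnion]
    exact (hS.subset fun t ht => ht.1).isClosed_biUnion fun t ht => hSc t ht.1
  obtain ⟨t, ⟨htS, htU⟩, hxt⟩ := closure_minimal hsub hcl hx
  obtain ⟨η, hη⟩ := QuasiSober.sober (hSi t htS) (hSc t htS)
  refine ⟨η, ⟨?_, (hη.mem_open_set_iff hU).2 htU⟩, hη.specializes hxt⟩
  rw [hSU]
  exact ⟨t, htS, hη.mem⟩

variable {V : X.Opens} {L : (V : Scheme.{u}).Modules}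

/-- The pushforward from an open subscheme has generators on that open. -/
theorem exists_gen_push (hL : PicF.IsInvertible L) {z : X} (hz : z ∈ V) :
    ∃ (T : X.Opens) (e : Γ((Scheme.Modules.pushforward V.ι).obj L, T)), z ∈ T ∧ T ≤ V ∧ IsGen e := by
  obtain ⟨D, e₀, hzD, he₀⟩ := TMul.exists_isGen hL ⟨z, hz⟩
  let T := V.ι ''ᵁ D
  have hT : T ≤ V := V.ι_image_le D
  have hTD : V.ι ⁻¹ᵁ T ≤ D := le_of_eq (V.ι.preimage_image_eq D)
  refine ⟨T, res L hTD e₀, ⟨⟨z, hz⟩, hzD, rfl⟩, hT, fun T' hT' => ?_⟩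
  have hb : Function.Bijective (V.ι.app T') := by
    haveI : IsIso (V.ι.app T') := V.ι.isIso_app T' (by rw [Scheme.Opens.opensRange_ι]; exact hT'.trans hT)
    exact ConcreteCategory.bijective_of_isIso _
  have h0 := (he₀ (V.ι ⁻¹ᵁ T') ((V.ι.preimage_mono hT').trans hTD)).comp hb
  have e : (fun c => c • res ((Scheme.Modules.pushforward V.ι).obj L) hT' (res L hTD e₀ :)) =
      (fun a => a • res L ((V.ι.preimage_mono hT').trans hTD) e₀) ∘ V.ι.app T' := by
    funext c
    show V.ι.app T' c • res L (V.ι.preimage_mono hT') (res L hTD e₀) = _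
    rw [res_res]
    rfl
  rw [e]
  exact h0

theorem bijective_res_of_eq {Y : Scheme.{u}} (M : Y.Modules) {A B : Y.Opens} (h : A = B) :
    Function.Bijective (res M h.le : Γ(M, B) → Γ(M, A)) := by
  subst h
  exact ⟨fun a b hab => by simpa only [res_self] using hab, fun a => ⟨a, res_self _ _ _⟩⟩

/-- Where a section pulls back to a generator along a flat map, it generates after extending by depth. -/
theorem exists_gen_near [IsLocallyNoetherian X] (φ : X' ⟶ X) [Flat φ] (hL : PicF.IsInvertible L)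
    (hsec : ∀ T : X.Opens, Function.Bijective (X.presheaf.map (homOfLE (inf_le_left : T ⊓ V ≤ T)).op))
    (hP : PicF.IsInvertible ((Scheme.Modules.pullback φ).obj ((Scheme.Modules.pushforward V.ι).obj L)))
    (hG : Coh.IsQCoh ((Scheme.Modules.pushforward V.ι).obj L)) (y : X') :
    ∃ (O : X.Opens) (e : Γ((Scheme.Modules.pushforward V.ι).obj L, O)), φ y ∈ O ∧ IsGen e := by
  set G := (Scheme.Modules.pushforward V.ι).obj L with hGdef
  set P := (Scheme.Modules.pullback φ).obj G with hPdef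
  obtain ⟨W, hW, hxW, -⟩ := exists_isAffineOpen_mem_and_subset (X := X) (U := ⊤) (x := φ y) trivial
  obtain ⟨s, O', hO', hyO', hgen⟩ := exists_pullSect_gen φ hG hP hW y hxW
  -- generisations of `φ y` in `W ⊓ V` are good
  let Good : Set X := {z | ∃ (T : X.Opens) (h : T ≤ W), z ∈ T ∧ IsGen (res G h s)}
  have hGood : IsOpen Good := isOpen_iff_forall_mem_open.2 fun z ⟨T, h, hzT, hT⟩ =>
    ⟨T, fun w hw => ⟨T, h, hw, hT⟩, T.2, hzT⟩
  have hgood : ∀ z, z ∈ W → z ∈ V → z ⤳ φ y → z ∈ Good := by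
    intro z hzW hzV hz
    obtain ⟨z', hz', rfl⟩ := Flat.generalizingMap φ hz
    have hz'O : z' ∈ O' := hz'.mem_open O'.2 hyO'
    obtain ⟨T, e, hzT, hTV, he⟩ := exists_gen_push hL hzV
    let T₀ := T ⊓ W
    obtain ⟨c, hc⟩ := (he T₀ inf_le_left).2 (res G inf_le_right s)
    by_cases hu : IsUnit (X.presheaf.germ T₀ (φ z') ⟨hzT, hzW⟩ c)
    · refine ⟨X.basicOpen c, (X.basicOpen_le c).trans inf_le_right,
        (X.mem_basicOpen c _ ⟨hzT, hzW⟩).2 hu, ?_⟩
      rw [← res_res G (X.basicOpen_le c) inf_le_right, ← hc, res_smul]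
      exact TMul.isGen_smul ((he.res _).res _) (RingedSpace.isUnit_res_basicOpen _ c)
    · exfalso
      let Q := O' ⊓ φ ⁻¹ᵁ T₀
      have hQ : z' ∈ Q := ⟨hz'O, hzT, hzW⟩
      let pe := res P (inf_le_right : Q ≤ φ ⁻¹ᵁ T₀) (OmegaSh.pullSect φ G T₀ (res G inf_le_left e))
      let d := X'.presheaf.map (homOfLE (inf_le_right : Q ≤ φ ⁻¹ᵁ T₀)).op (φ.app T₀ c)
      have h1 : d • pe = res P (inf_le_left.trans hO') (OmegaSh.pullSect φ G W s) := by
        rw [show d • pe = res P (inf_le_right : Q ≤ φ ⁻¹ᵁ T₀)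
          (φ.app T₀ c • OmegaSh.pullSect φ G T₀ (res G inf_le_left e)) from (res_smul _ _ _ _).symm,
          ← PBundle.pullSect_smul, show c • res G inf_le_left e = res G inf_le_right s from hc, PBundle.pullSect_res, res_res]
      obtain ⟨d', hd'⟩ := (hgen Q inf_le_left).2 pe
      have h2 : d * d' = 1 := by
        refine (hgen Q inf_le_left).1 ?_
        show (d * d') • res P inf_le_left (res P hO' (OmegaSh.pullSect φ G W s)) = (1 : Γ(X', Q)) • _
        rw [mul_smul, show d' • res P inf_le_left (res P hO' (OmegaSh.pullSect φ G W s)) = pe from hd', h1,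
          one_smul, res_res]
      have h3 : IsUnit (X'.presheaf.germ Q z' hQ d) := (IsUnit.of_mul_eq_one d' h2).map _
      have h4 : X'.presheaf.germ Q z' hQ d = φ.stalkMap z' (X.presheaf.germ T₀ (φ z') ⟨hzT, hzW⟩ c) := by
        rw [Scheme.Hom.germ_stalkMap_apply]
        exact TopCat.Presheaf.germ_res_apply _ _ _ _ _
      rw [h4] at h3
      exact hu (IsLocalHom.map_nonunit _ h3)
  -- remove the closure of the bad set
  haveI : IsNoetherianRing Γ(X, W) := IsLocallyNoetherian.component_noetherian ⟨W, hW⟩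
  haveI : NoetherianSpace (W : Set X) := noetherianSpace_of_isAffineOpen W hW
  haveI : QuasiSober (W : Set X) := W.2.isOpenEmbedding_subtypeVal.quasiSober
  let C : Set (W : Set X) := Subtype.val ⁻¹' Goodᶜ
  let U : Set (W : Set X) := Subtype.val ⁻¹' (V : Set X)
  have hx' : (⟨φ y, hxW⟩ : (W : Set X)) ∉ closure (C ∩ U) := fun h => by
    obtain ⟨z, ⟨hzC, hzU⟩, hz⟩ := exists_specializes (hGood.isClosed_compl.preimage continuous_subtype_val)
      (V.2.preimage continuous_subtype_val) h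
    exact hzC (hgood z z.2 hzU (hz.map continuous_subtype_val))
  let O : X.Opens := ⟨Subtype.val '' (closure (C ∩ U))ᶜ, W.2.isOpenMap_subtype_val _ isClosed_closure.isOpen_compl⟩
  have hOW : O ≤ W := by
    rintro _ ⟨w, -, rfl⟩
    exact w.2
  refine ⟨O, res G hOW s, ⟨⟨φ y, hxW⟩, hx', rfl⟩, ?_⟩
  have hOV : IsGen (res G ((inf_le_left : O ⊓ V ≤ O).trans hOW) s) := by
    refine MeroLib.isGen_of_locally _ fun z hz => ?_
    obtain ⟨⟨w, hw, rfl⟩, hzV⟩ := hz
    obtain ⟨T, hT, hzT, hgT⟩ : (w : X) ∈ Good := by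
      by_contra hb
      exact hw (subset_closure ⟨hb, hzV⟩)
    refine ⟨O ⊓ V ⊓ T, inf_le_left, ⟨⟨⟨w, hw, rfl⟩, hzV⟩, hzT⟩, ?_⟩
    rw [res_res, ← res_res G (inf_le_right : O ⊓ V ⊓ T ≤ T) hT]
    exact hgT.res _
  intro T hT
  have hb1 := hsec T
  have hb2 : Function.Bijective (res G (inf_le_left : T ⊓ V ≤ T) : Γ(G, T) → Γ(G, T ⊓ V)) := by
    have e : V.ι ⁻¹ᵁ (T ⊓ V) = V.ι ⁻¹ᵁ T := by
      rw [Scheme.Hom.preimage_inf, Scheme.Opens.ι_preimage_self, inf_top_eq]
    exact bijective_res_of_eq L e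
  have h := (hOV (T ⊓ V) (inf_le_inf_right V hT)).comp hb1
  refine (hb2.of_comp_iff' _).1 ?_
  convert h using 1
  funext c
  show res G inf_le_left (c • res G hT (res G hOW s)) = _
  rw [res_smul, res_res, res_res]
  simp only [Function.comp_apply, res_res]

end Groth.Agent.ExtFlat
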