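import Groth.Agent.ExtFlat.Gen
import Groth.Agent.W7FlatBC.Main
import Groth.Agent.RefStalk.Restrict
import Groth.Agent.ResDesc.ResProp
import Groth.Agent.SerrePn.ClosedDepth
import Groth.Agent.K0Coh.Basic
import Groth.Agent.TMul.AmpleBasis
import Groth.Agent.FinFlatExt.Basic
import Groth.Agent.DepthExtend.Basic
import Groth.Agent.Castel.Descend
import Groth.Agent.QC.Localisation
import Groth.Agent.FlatParaF.Main

/-! Invertible extensions across a big open are detected after a flat surjection. -/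

set_option autoImplicit false
set_option backward.isDefEq.respectTransparency false
set_option backward.isDefEq.respectTransparency.types false
set_option maxHeartbeats 1000000

universe u

open CategoryTheory CategoryTheory.Limits AlgebraicGeometry Opposite

noncomputable section

namespace Groth.Agent.ExtFlat

variable {X X' : Scheme.{u}} [IsLocallyNoetherian X] [IsLocallyNoetherian X'] (φ : X' ⟶ X) [Flat φ]
  [Surjective φ] (V : X.Opens) (L : (V : Scheme.{u}).Modules)

theorem exists_extension_iff (hV : ∀ x : X, x ∉ V → 2 ≤ LocCoh.depth (X.presheaf.stalk x) (X.presheaf.stalk x))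
    (hL : PicF.IsInvertible L) :
    (∃ M : X.Modules, PicF.IsInvertible M ∧ Nonempty ((Scheme.Modules.pullback V.ι).obj M ≅ L)) ↔
      (∃ M' : X'.Modules, PicF.IsInvertible M' ∧
        Nonempty ((Scheme.Modules.pullback (φ ⁻¹ᵁ V).ι).obj M' ≅ (Scheme.Modules.pullback (φ ∣_ V)).obj L)) := by
  refine ⟨fun ⟨M, hM, ⟨e⟩⟩ => ⟨(Scheme.Modules.pullback φ).obj M, PicLoc.isInvertible_pullback φ hM,
    ⟨(Scheme.Modules.pullbackComp (φ ⁻¹ᵁ V).ι φ).app M ≪≫
      (Scheme.Modules.pullbackCongr (morphismRestrict_ι φ V).symm).app M ≪≫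
      ((Scheme.Modules.pullbackComp (φ ∣_ V) V.ι).app M).symm ≪≫
      (Scheme.Modules.pullback (φ ∣_ V)).mapIso e⟩⟩, fun ⟨M', hM', ⟨e⟩⟩ => ?_⟩
  haveI hq : Coh.IsQCoh L := TMul.isQCoh_of_isInvertible hL
  have hG : Coh.IsQCoh ((Scheme.Modules.pushforward V.ι).obj L) := QC.isQCoh_pushforward V.ι
  have hbc := W7FlatBC.isIso_baseChangeMap (f := V.ι) (g := φ) (g' := φ ∣_ V) (f' := (φ ⁻¹ᵁ V).ι)
    (isPullback_morphismRestrict φ V) hq
  have hM'c : Coh.IsCoh M' := K0Coh.isCoh_of_isFinLocFree (ResDesc.isFinLocFree_of_isInvertible hM')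
  have hunit := RefStalk.isIso_unit_of_depth hM'c (φ ⁻¹ᵁ V) fun x hx => by
    haveI := LocFree.free_stalk_of_isFinLocFree (ResDesc.isFinLocFree_of_isInvertible hM') x
    haveI := RegDual.finite_stalk (K0Coh.isCoh_of_isFinLocFree (ResDesc.isFinLocFree_of_isInvertible hM')) x
    exact SerrePn.le_depth_free ((hV (φ x) hx).trans (FinFlatExt.depth_le_stalk φ x)) _
  let i : (Scheme.Modules.pullback φ).obj ((Scheme.Modules.pushforward V.ι).obj L) ≅ M' :=
    @asIso _ _ _ _ _ hbc ≪≫ (Scheme.Modules.pushforward (φ ⁻¹ᵁ V).ι).mapIso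
      (e.symm ≪≫ ((Scheme.Modules.restrictFunctorIsoPullback (φ ⁻¹ᵁ V).ι).app M').symm) ≪≫
      (@asIso _ _ _ _ _ hunit).symm
  have hP : PicF.IsInvertible ((Scheme.Modules.pullback φ).obj ((Scheme.Modules.pushforward V.ι).obj L)) :=
    ParaFLib.isInvertible_of_iso i.symm hM'
  refine ⟨(Scheme.Modules.pushforward V.ι).obj L, Castel.isInvertible_of_gens _ fun x => ?_,
    ⟨((Scheme.Modules.restrictFunctorIsoPullback V.ι).app _).symm ≪≫
      asIso ((Scheme.Modules.restrictAdjunction V.ι).counit.app L)⟩⟩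
  obtain ⟨y, rfl⟩ := φ.surjective x
  exact exists_gen_near φ hL (fun T => DepthExtend.bijective_sections (U := V) hV T) hP hG y

end Groth.Agent.ExtFlat
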