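import Groth.Agent.ExtFlat.Basic

/-!
`Ext` out of power torsion modules into `N → B ⊗ N`.
-/

set_option autoImplicit false
set_option linter.style.haveILetI false

namespace Groth.Agent.ExtFlat

universe u

open CategoryTheory CategoryTheory.Limits TensorProduct Abelian

variable {A : Type u} [CommRing A] {B : Type u} [CommRing B] [Algebra A B] [Module.Flat A B] (I : Ideal A)

omit [Algebra A B] [Module.Flat A B] in
/-- the sequence of a submodule -/
lemma exists_quot_seq {M : ModuleCat.{u} A} (P : Submodule A M) :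
    ∃ (f : ModuleCat.of A P ⟶ M) (g : M ⟶ ModuleCat.of A (M ⧸ P)) (w : f ≫ g = 0),
      (ShortComplex.mk f g w).ShortExact ∧ (∀ x : P, f.hom x = x.1) ∧ ∀ x : M, g.hom x = Submodule.Quotient.mk x :=
  ⟨ModuleCat.ofHom P.subtype, ModuleCat.ofHom P.mkQ,
    ModuleCat.hom_ext (LinearMap.ext fun z => (Submodule.Quotient.mk_eq_zero _).2 z.2),
    { exact := (ShortComplex.ShortExact.moduleCat_exact_iff_function_exact _).2 (LinearMap.exact_subtype_mkQ P)
      mono_f := (ModuleCat.mono_iff_injective _).2 P.injective_subtype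
      epi_g := (ModuleCat.epi_iff_surjective _).2 P.mkQ_surjective }, fun _ => rfl, fun _ => rfl⟩

omit [Module.Flat A B] in
/-- two out of three for the source -/
lemma bij_of_ext {S : ShortComplex (ModuleCat.{u} A)} (hS : S.ShortExact) (N : ModuleCat.{u} A)
    (h₁ : ∀ q, Bij B S.X₁ N q) (h₃ : ∀ q, Bij B S.X₃ N q) (q : ℕ) : Bij B S.X₂ N q := by
  have hinj : ∀ x : Ext S.X₂ N q, pc x (η B N) = 0 → x = 0 := fun x hx => by
    have h : (Ext.mk₀ S.f).comp x (zero_add q) = 0 := (h₁ q).inj (by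
      rw [pc, Ext.comp_assoc_of_third_deg_zero, show x.comp (Ext.mk₀ (η B N)) _ = 0 from hx, Ext.comp_zero])
    obtain ⟨x₃, rfl⟩ := Ext.contravariant_sequence_exact₂ hS N x h
    have h0 : (Ext.mk₀ S.g).comp (pc x₃ (η B N)) (zero_add q) = 0 := by
      rw [pc, ← Ext.comp_assoc_of_third_deg_zero]; exact hx
    rcases q with _ | n₀
    · obtain ⟨g, rfl⟩ := (Ext.mk₀_bijective _ _).2 x₃
      rw [pc, Ext.mk₀_comp_mk₀, Ext.mk₀_comp_mk₀, ← Ext.mk₀_zero] at h0
      haveI := hS.epi_g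
      have := Limits.zero_of_epi_comp S.g ((Ext.mk₀_bijective _ _).1 h0)
      rw [(h₃ 0).inj (x := Ext.mk₀ g) (by rw [pc, Ext.mk₀_comp_mk₀, this, Ext.mk₀_zero]), Ext.comp_zero]
    · obtain ⟨y, hy⟩ := Ext.contravariant_sequence_exact₃ hS (FN B N) (pc x₃ (η B N)) h0 (n₀ := n₀) (by omega)
      obtain ⟨x₁, rfl⟩ := (h₁ n₀).surj y
      have : x₃ = hS.extClass.comp x₁ (by omega) := (h₃ (n₀ + 1)).1 (by
        change pc x₃ (η B N) = (hS.extClass.comp x₁ (by omega)).comp (Ext.mk₀ (η B N)) _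
        rw [Ext.comp_assoc_of_third_deg_zero]
        exact hy.symm)
      rw [this, hS.comp_extClass_assoc]
  refine ⟨fun x x' h => sub_eq_zero.1 (hinj _ ?_), fun y => ?_⟩
  · change (x - x').comp (Ext.mk₀ (η B N)) (add_zero q) = 0
    rw [sub_eq_add_neg, Ext.add_comp, Ext.neg_comp, ← sub_eq_add_neg]
    exact sub_eq_zero.2 h
  · obtain ⟨x₁, hx₁⟩ := (h₁ q).surj ((Ext.mk₀ S.f).comp y (zero_add q))
    have hδ : hS.extClass.comp x₁ (rfl : 1 + q = 1 + q) = 0 := (h₃ _).inj (by
      rw [pc, Ext.comp_assoc_of_third_deg_zero, show x₁.comp (Ext.mk₀ (η B N)) _ = _ from hx₁,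
        hS.extClass_comp_assoc])
    obtain ⟨x, hx⟩ := Ext.contravariant_sequence_exact₁ hS N x₁ rfl hδ
    have hz : (Ext.mk₀ S.f).comp (pc x (η B N) - y) (zero_add q) = 0 := by
      rw [sub_eq_add_neg, Ext.comp_add, Ext.comp_neg, ← sub_eq_add_neg, sub_eq_zero, pc,
        ← Ext.comp_assoc_of_third_deg_zero, hx]
      exact hx₁
    obtain ⟨y₃, hy₃⟩ := Ext.contravariant_sequence_exact₂ hS (FN B N) _ hz
    obtain ⟨x₃, rfl⟩ := (h₃ q).surj y₃
    refine ⟨x - (Ext.mk₀ S.g).comp x₃ (zero_add q), ?_⟩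
    change (x - _).comp (Ext.mk₀ (η B N)) (add_zero q) = y
    rw [sub_eq_add_neg, Ext.add_comp, Ext.neg_comp, ← sub_eq_add_neg, Ext.comp_assoc_of_third_deg_zero]
    change pc x (η B N) - (Ext.mk₀ S.g).comp (pc x₃ (η B N)) _ = y
    rw [hy₃, sub_sub_cancel]

variable (hI : I.FG)
  (hs : Function.Surjective ((Ideal.Quotient.mk (I.map (algebraMap A B))).comp (algebraMap A B)))
  (hk : RingHom.ker ((Ideal.Quotient.mk (I.map (algebraMap A B))).comp (algebraMap A B)) = I)

include hI hs hk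

theorem bij_of_pow : ∀ (n : ℕ) (T : ModuleCat.{u} A), (∀ a ∈ I ^ n, ∀ x : T, a • x = 0) →
    ∀ (N : ModuleCat.{u} A) (q : ℕ), Bij B T N q
  | 0, T, hT, N, q => bij_of_killed I hI hs hk T (fun a _ x => by
      rw [show x = 0 by simpa using hT 1 (by simp) x, smul_zero]) N q
  | n + 1, T, hT, N, q => by
    obtain ⟨f, g, w, hS, -, -⟩ := exists_quot_seq (I • (⊤ : Submodule A T))
    refine bij_of_ext hS N (bij_of_pow n (ModuleCat.of A (I • (⊤ : Submodule A T) : Submodule A T))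
      (fun a ha x => Subtype.ext ?_) N) (bij_of_killed I hI hs hk (ModuleCat.of A (T ⧸ I • (⊤ : Submodule A T)))
      (fun a ha x => ?_) N) q
    · change a • x.1 = (0 : T)
      refine Submodule.smul_induction_on (p := fun y => a • y = (0 : T)) x.2 (fun r hr y _ => ?_)
        (fun y z hy hz => ?_)
      · rw [smul_smul]
        exact hT (a * r) (by rw [pow_succ]; exact Ideal.mul_mem_mul ha hr) y
      · rw [smul_add, hy, hz, add_zero]
    · obtain ⟨x, rfl⟩ := Submodule.Quotient.mk_surjective _ x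
      exact (Submodule.Quotient.mk_eq_zero _).2 (Submodule.smul_mem_smul ha trivial)

theorem bij_zero (M : ModuleCat.{u} A) (hM : ∀ m : M, ∃ n : ℕ, ∀ a ∈ I ^ n, a • m = 0) (N : ModuleCat.{u} A) :
    Bij B M N 0 := by
  have key : ∀ (n : ℕ) (z : B ⊗[A] N), (∀ a ∈ I ^ n, a • z = 0) →
      ∃ x : N, (∀ a ∈ I ^ n, a • x = 0) ∧ (η B N).hom x = z := by
    intro n z hz
    let T : ModuleCat.{u} A := ModuleCat.of A (A ⧸ I ^ n)
    let gz : T ⟶ FN B N := ModuleCat.ofHom ((I ^ n).liftQ (LinearMap.toSpanSingleton A (B ⊗[A] N) z) fun a ha => hz a ha)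
    have hT : ∀ a ∈ I ^ n, ∀ x : T, a • x = 0 := fun a ha x => by
      obtain ⟨x, rfl⟩ := Submodule.Quotient.mk_surjective _ x
      exact (Submodule.Quotient.mk_eq_zero _).2 (Ideal.mul_mem_right _ _ ha)
    obtain ⟨e, he⟩ := (bij_of_pow I hI hs hk n T hT N 0).surj (Ext.mk₀ gz)
    obtain ⟨g, rfl⟩ := (Ext.mk₀_bijective _ _).2 e
    rw [pc, Ext.mk₀_comp_mk₀] at he
    refine ⟨g.hom (Submodule.Quotient.mk 1), fun a ha => ?_, ?_⟩
    · rw [← map_smul, hT a ha, map_zero]
    · have := LinearMap.congr_fun (congrArg ModuleCat.Hom.hom ((Ext.mk₀_bijective _ _).1 he))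
        (Submodule.Quotient.mk 1)
      exact this.trans (one_smul A z)
  have key0 : ∀ (n : ℕ) (x : N), (∀ a ∈ I ^ n, a • x = 0) → (η B N).hom x = 0 → x = 0 := by
    intro n x hx hηx
    let P := Submodule.span A ({x} : Set N)
    have hP : ∀ a ∈ I ^ n, ∀ y : P, a • y = 0 := fun a ha y => Subtype.ext (by
      obtain ⟨c, hc⟩ := Submodule.mem_span_singleton.1 y.2
      change a • y.1 = (0 : N)
      rw [← hc, smul_comm, hx a ha, smul_zero])
    have h := (bij_of_pow I hI hs hk n (ModuleCat.of A P) hP N 0).inj (x := Ext.mk₀ (ModuleCat.ofHom P.subtype)) (by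
      rw [pc, Ext.mk₀_comp_mk₀, ← Ext.mk₀_zero]
      congr 1
      refine ModuleCat.hom_ext (LinearMap.ext fun y => ?_)
      obtain ⟨c, hc⟩ := Submodule.mem_span_singleton.1 y.2
      change (η B N).hom y.1 = 0
      rw [← hc, map_smul, hηx, smul_zero])
    rw [← Ext.mk₀_zero] at h
    exact LinearMap.congr_fun (congrArg ModuleCat.Hom.hom ((Ext.mk₀_bijective _ _).1 h))
      (⟨x, Submodule.mem_span_singleton_self x⟩ : P)
  have inj : ∀ (x y : N), (∃ n, ∀ a ∈ I ^ n, a • x = 0) → (∃ n, ∀ a ∈ I ^ n, a • y = 0) →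
      (η B N).hom x = (η B N).hom y → x = y := by
    rintro x y ⟨n, hn⟩ ⟨m, hm⟩ h
    refine sub_eq_zero.1 (key0 (n + m) (x - y) (fun a ha => ?_) (by rw [map_sub, h, sub_self]))
    rw [smul_sub, hn a (Ideal.pow_le_pow_right (Nat.le_add_right n m) ha),
      hm a (Ideal.pow_le_pow_right (Nat.le_add_left m n) ha), sub_zero]
  refine ⟨fun e e' h => ?_, fun e => ?_⟩
  · obtain ⟨f, rfl⟩ := (Ext.mk₀_bijective M N).2 e
    obtain ⟨f', rfl⟩ := (Ext.mk₀_bijective M N).2 e'
    simp only [pc, Ext.mk₀_comp_mk₀] at h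
    have h' := congrArg ModuleCat.Hom.hom ((Ext.mk₀_bijective _ _).1 h)
    congr 1
    refine ModuleCat.hom_ext (LinearMap.ext fun m => ?_)
    obtain ⟨n, hn⟩ := hM m
    exact inj _ _ ⟨n, fun a ha => by rw [← map_smul, hn a ha, map_zero]⟩
      ⟨n, fun a ha => by rw [← map_smul, hn a ha, map_zero]⟩ (LinearMap.congr_fun h' m)
  · obtain ⟨g, rfl⟩ := (Ext.mk₀_bijective M (FN B N)).2 e
    have hex : ∀ m : M, ∃ x : N, (∃ n, ∀ a ∈ I ^ n, a • x = 0) ∧ (η B N).hom x = g.hom m := fun m => by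
      obtain ⟨n, hn⟩ := hM m
      obtain ⟨x, hx, hx'⟩ := key n (g.hom m) fun a ha => by rw [← map_smul, hn a ha, map_zero]
      exact ⟨x, ⟨n, hx⟩, hx'⟩
    choose f hf hfg using hex
    let F : M ⟶ N := ModuleCat.ofHom
      { toFun := f
        map_add' := fun m m' => inj _ _ (hf _) (by
          obtain ⟨n, hn⟩ := hf m
          obtain ⟨k, hk⟩ := hf m'
          exact ⟨n + k, fun a ha => by
            rw [smul_add, hn a (Ideal.pow_le_pow_right (Nat.le_add_right n k) ha),
              hk a (Ideal.pow_le_pow_right (Nat.le_add_left k n) ha), add_zero]⟩) (by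
          rw [map_add, hfg, hfg, hfg, map_add])
        map_smul' := fun c m => inj _ _ (hf _) (by
          obtain ⟨n, hn⟩ := hf m
          exact ⟨n, fun a ha => by rw [RingHom.id_apply, smul_comm, hn a ha, smul_zero]⟩) (by
          rw [RingHom.id_apply, map_smul, hfg, hfg, map_smul]) }
    refine ⟨Ext.mk₀ F, ?_⟩
    change pc (Ext.mk₀ F) (η B N) = _
    rw [pc, Ext.mk₀_comp_mk₀]
    exact congrArg Ext.mk₀ (ModuleCat.hom_ext (LinearMap.ext hfg))

omit hI hs hk

omit [Algebra A B] [Module.Flat A B] in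
/-- vanishing of higher `Ext` on bounded torsion modules passes to all power torsion modules -/
theorem ext_eq_zero (M : ModuleCat.{u} A) (hM : ∀ m : M, ∃ n : ℕ, ∀ a ∈ I ^ n, a • m = 0) :
    ∀ (p : ℕ) (J : ModuleCat.{u} A), (∀ (n : ℕ) (X : ModuleCat.{u} A), (∀ a ∈ I ^ n, ∀ x : X, a • x = 0) →
      ∀ (p : ℕ) (e : Ext X J (p + 1)), e = 0) → ∀ e : Ext M J (p + 1), e = 0 := by
  intro p
  induction p with
  | zero =>
    intro J hJ e
    obtain ⟨ip⟩ := EnoughInjectives.presentation J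
    haveI := ip.injective
    let S : ShortComplex (ModuleCat.{u} A) := ShortComplex.mk ip.f (cokernel.π ip.f) (cokernel.condition _)
    have hS : S.ShortExact := { exact := ShortComplex.exact_cokernel _ }
    obtain ⟨e₀, rfl⟩ := Ext.covariant_sequence_exact₁ M hS e
      (Ext.eq_zero_of_injective (I := S.X₂) _) (n₀ := 0) rfl
    obtain ⟨g, rfl⟩ := (Ext.mk₀_bijective _ _).2 e₀
    suffices ∃ h : M ⟶ S.X₂, h ≫ S.g = g by
      obtain ⟨h, rfl⟩ := this
      rw [← Ext.mk₀_comp_mk₀, Ext.comp_assoc_of_second_deg_zero, hS.comp_extClass, Ext.comp_zero]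
    -- compatible lifts on the layers
    let L : ℕ → Submodule A M := fun n =>
      { carrier := {m | ∀ a ∈ I ^ n, a • m = 0}
        add_mem' := fun {x y} hx hy a ha => by rw [smul_add, hx a ha, hy a ha, add_zero]
        zero_mem' := fun a _ => smul_zero a
        smul_mem' := fun c x hx a ha => by rw [smul_comm, hx a ha, smul_zero] }
    have hL : ∀ n, L n ≤ L (n + 1) := fun n m hm a ha => hm a (Ideal.pow_le_pow_right n.le_succ ha)
    have step : ∀ (n : ℕ) (h : ModuleCat.of A (L n) ⟶ S.X₂), h ≫ S.g = ModuleCat.ofHom (L n).subtype ≫ g →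
        ∃ h' : ModuleCat.of A (L (n + 1)) ⟶ S.X₂, h' ≫ S.g = ModuleCat.ofHom (L (n + 1)).subtype ≫ g ∧
          ModuleCat.ofHom (Submodule.inclusion (hL n)) ≫ h' = h := by
      intro n h hh
      have lift : ∀ (X : ModuleCat.{u} A) (_ : ∀ a ∈ I ^ (n + 1), ∀ x : X, a • x = 0) (u : X ⟶ S.X₃),
          ∃ v : X ⟶ S.X₂, v ≫ S.g = u := fun X hX u => by
        obtain ⟨w, hw⟩ := Ext.covariant_sequence_exact₃ X hS (Ext.mk₀ u) (n₁ := 1) rfl (hJ (n + 1) X hX 0 _)
        obtain ⟨v, rfl⟩ := (Ext.mk₀_bijective _ _).2 w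
        rw [Ext.mk₀_comp_mk₀] at hw
        exact ⟨v, (Ext.mk₀_bijective _ _).1 hw⟩
      obtain ⟨v, hv⟩ := lift (ModuleCat.of A (L (n + 1))) (fun a ha x => Subtype.ext (x.2 a ha))
        (ModuleCat.ofHom (L (n + 1)).subtype ≫ g)
      let incl : ModuleCat.of A (L n) ⟶ ModuleCat.of A (L (n + 1)) := ModuleCat.ofHom (Submodule.inclusion (hL n))
      have hd : (h - incl ≫ v) ≫ S.g = 0 := by
        rw [Preadditive.sub_comp, Category.assoc, hv, hh, sub_eq_zero]
        rfl
      haveI : Mono S.f := hS.mono_f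
      let d : ModuleCat.of A (L n) ⟶ J := hS.exact.lift (h - incl ≫ v) hd
      have hdf : d ≫ ip.f = h - incl ≫ v := hS.exact.lift_f _ hd
      haveI : Mono incl := (ModuleCat.mono_iff_injective _).2 (Submodule.inclusion_injective (hL n))
      let T : ShortComplex (ModuleCat.{u} A) := ShortComplex.mk incl (cokernel.π incl) (cokernel.condition _)
      have hT : T.ShortExact := { exact := ShortComplex.exact_cokernel _ }
      have hq : ∀ a ∈ I ^ (n + 1), ∀ x : (cokernel incl : ModuleCat.{u} A), a • x = 0 := fun a ha x => by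
        obtain ⟨y, rfl⟩ := (ModuleCat.epi_iff_surjective (cokernel.π incl)).1 inferInstance x
        rw [← map_smul, show a • y = 0 from Subtype.ext (y.2 a ha), map_zero]
      obtain ⟨d', hd'⟩ := Ext.contravariant_sequence_exact₁ hT J (Ext.mk₀ d) (n₁ := 1) rfl
        (hJ (n + 1) _ hq 0 _)
      obtain ⟨d', rfl⟩ := (Ext.mk₀_bijective _ _).2 d'
      rw [Ext.mk₀_comp_mk₀] at hd'
      have hd'' : incl ≫ d' = d := (Ext.mk₀_bijective _ _).1 hd'
      refine ⟨v + d' ≫ ip.f, ?_, ?_⟩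
      · rw [Preadditive.add_comp, Category.assoc, hv, show ip.f ≫ S.g = 0 from S.zero, comp_zero, add_zero]
      · change incl ≫ (v + d' ≫ ip.f) = h
        rw [Preadditive.comp_add, ← Category.assoc, hd'', hdf, add_sub_cancel]
    have h0 : (0 : ModuleCat.of A (L 0) ⟶ S.X₂) ≫ S.g = ModuleCat.ofHom (L 0).subtype ≫ g := by
      rw [zero_comp]
      refine ModuleCat.hom_ext (LinearMap.ext fun m => ?_)
      have : (m : M) = 0 := by simpa using m.2 1 (by simp)
      change 0 = g.hom (m : M)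
      rw [this, map_zero]
    let H : ∀ n, {h : ModuleCat.of A (L n) ⟶ S.X₂ // h ≫ S.g = ModuleCat.ofHom (L n).subtype ≫ g} := fun n =>
      Nat.rec ⟨0, h0⟩ (fun n h => ⟨_, (step n h.1 h.2).choose_spec.1⟩) n
    have hcompat : ∀ (n k : ℕ) (m : M) (hm : m ∈ L n) (hm' : m ∈ L (n + k)),
        (H n).1.hom ⟨m, hm⟩ = (H (n + k)).1.hom ⟨m, hm'⟩ := by
      intro n k
      induction k with
      | zero => intro m hm hm'; rfl
      | succ k ih =>
        intro m hm hm'
        have hmk : m ∈ L (n + k) := fun a ha => hm a (Ideal.pow_le_pow_right (Nat.le_add_right n k) ha)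
        refine (ih m hm hmk).trans ?_
        exact (LinearMap.congr_fun (congrArg ModuleCat.Hom.hom (step (n + k) (H (n + k)).1 (H (n + k)).2).choose_spec.2)
          (⟨m, hmk⟩ : L (n + k))).symm
    have hany : ∀ (n k : ℕ) (m : M) (hm : m ∈ L n) (hm' : m ∈ L k), (H n).1.hom ⟨m, hm⟩ = (H k).1.hom ⟨m, hm'⟩ := by
      intro n k m hm hm'
      rcases le_total n k with h | h
      · obtain ⟨j, rfl⟩ := Nat.le.dest h
        exact hcompat n j m hm hm'
      · obtain ⟨j, rfl⟩ := Nat.le.dest h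
        exact (hcompat k j m hm' hm).symm
    choose ν hν using hM
    let F : M ⟶ S.X₂ := ModuleCat.ofHom
      { toFun := fun m => (H (ν m)).1.hom ⟨m, hν m⟩
        map_add' := fun x y => by
          have hx : x ∈ L (ν x + ν y) := fun a ha => hν x a (Ideal.pow_le_pow_right (Nat.le_add_right _ _) ha)
          have hy : y ∈ L (ν x + ν y) := fun a ha => hν y a (Ideal.pow_le_pow_right (Nat.le_add_left _ _) ha)
          rw [hany (ν (x + y)) (ν x + ν y) _ _ ((L _).add_mem hx hy), hany (ν x) (ν x + ν y) x _ hx,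
            hany (ν y) (ν x + ν y) y _ hy, ← map_add]
          rfl
        map_smul' := fun c x => by
          rw [RingHom.id_apply, hany (ν (c • x)) (ν x) _ _ ((L _).smul_mem c (hν x)), ← map_smul]
          rfl }
    exact ⟨F, ModuleCat.hom_ext (LinearMap.ext fun m =>
      LinearMap.congr_fun (congrArg ModuleCat.Hom.hom (H (ν m)).2) (⟨m, hν m⟩ : L (ν m)))⟩
  | succ p ih =>
    intro J hJ e
    obtain ⟨ip⟩ := EnoughInjectives.presentation J
    haveI := ip.injective
    let S : ShortComplex (ModuleCat.{u} A) := ShortComplex.mk ip.f (cokernel.π ip.f) (cokernel.condition _)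
    have hS : S.ShortExact := { exact := ShortComplex.exact_cokernel _ }
    obtain ⟨e₀, rfl⟩ := Ext.covariant_sequence_exact₁ M hS e
      (Ext.eq_zero_of_injective (I := S.X₂) _) (n₀ := p + 1) rfl
    rw [ih S.X₃ (fun n X hX q e' => by
      obtain ⟨w, rfl⟩ := Ext.covariant_sequence_exact₃ X hS e' rfl (hJ n X hX (q + 1) _)
      rw [Ext.eq_zero_of_injective (I := S.X₂) w, Ext.zero_comp]) e₀, Ext.zero_comp]

include hI hs hk

theorem bij_torsion (M : ModuleCat.{u} A) (hM : ∀ m : M, ∃ n : ℕ, ∀ a ∈ I ^ n, a • m = 0) :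
    ∀ (q : ℕ) (N : ModuleCat.{u} A), Bij B M N q := by
  intro q
  induction q with
  | zero => exact bij_zero I hI hs hk M hM
  | succ q ih =>
    intro N
    obtain ⟨ip⟩ := EnoughInjectives.presentation N
    haveI := ip.injective
    let S : ShortComplex (ModuleCat.{u} A) := ShortComplex.mk ip.f (cokernel.π ip.f) (cokernel.condition _)
    have hS : S.ShortExact := { exact := ShortComplex.exact_cokernel _ }
    have F := FS_shortExact (B := B) hS
    have hv : ∀ e : Ext M (FN B S.X₂) (q + 1), e = 0 := ext_eq_zero I M hM q (FN B S.X₂) fun n X hX p e => by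
      obtain ⟨x, rfl⟩ := (bij_of_pow I hI hs hk n X hX S.X₂ (p + 1)).surj e
      rw [Ext.eq_zero_of_injective (I := S.X₂) x, pc_zero]
    refine ⟨fun x x' h => sub_eq_zero.1 ?_, fun y => ?_⟩
    · have hd : pc (x - x') (η B N) = 0 := by
        change (x - x').comp (Ext.mk₀ (η B N)) (add_zero (q + 1)) = 0
        rw [sub_eq_add_neg, Ext.add_comp, Ext.neg_comp, ← sub_eq_add_neg]
        exact sub_eq_zero.2 h
      obtain ⟨k, hk'⟩ := Ext.covariant_sequence_exact₁ M hS (x - x')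
        (Ext.eq_zero_of_injective (I := S.X₂) _) (n₀ := q) rfl
      obtain ⟨n', hn'⟩ := Ext.covariant_sequence_exact₃ M F (pc k (η B S.X₃)) rfl (by
        rw [← extClass_η hS k rfl, hk']; exact hd)
      obtain ⟨n, rfl⟩ := (ih S.X₂).surj n'
      have : k = pc n S.g := (ih S.X₃).1 (by
        change pc k (η B S.X₃) = pc (pc n S.g) (η B S.X₃)
        rw [← hn', pc_pc n S.g, η_nat, ← pc_pc])
      rw [← hk', this, pc, Ext.comp_assoc_of_second_deg_zero, hS.comp_extClass, Ext.comp_zero]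
    · obtain ⟨k', rfl⟩ := Ext.covariant_sequence_exact₁ M F y (hv _) (n₀ := q) rfl
      obtain ⟨k, rfl⟩ := (ih S.X₃).surj k'
      exact ⟨k.comp hS.extClass rfl, extClass_η hS k rfl⟩

end Groth.Agent.ExtFlat
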